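import Cfsg.Agent.H16.EP.Small
import Cfsg.Agent.H805.EPT.SporUB
import Cfsg.Agent.S1619
import Cfsg.Agent.S2066

/-!
# S3499-V: socle `J₂` (helper16), task 6078
-/

set_option autoImplicit false

namespace Cfsg.Agent.H16.EP

open Subgroup Cfsg Cfsg.Geo Cfsg.Agent.H284 Cfsg.Agent.H419.EP Cfsg.Agent.H805.EPT
open scoped MatrixGroups

variable {Q : Type} [Group Q] [Finite Q] {A : Subgroup Q} {Γ : Subgroup (MulAut Q)} {ι : Type} [Fintype ι]
    [DecidableEq ι] {F : Type} [Field F] [Fintype F] {S P : Subgroup (GL ι F)}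

/-- contradiction from the bound with three generators -/
theorem false_of_ubl (hub : UBThree) (b : Big A Γ S P) (l : List (ℕ × ℕ)) (h1 : ∀ x ∈ l, x.1.Prime ∧ 0 < x.2)
    (h2 : (l.map Prod.fst).Nodup) (hc : Nat.card A = (l.map fun x => x.1 ^ x.2).prod) (h : ubl l < 2 ^ 88) : False :=
  absurd ((ord_ge b).trans (card_le_of_list hub b.simple b.ept (noAb b) l h1 h2 hc)) (not_le.2 h)

theorem j2 (hub : UBThree) (b : Big A Γ S P) (h : Spor.IsoJ2 (socle P)) : False := by
  obtain ⟨e⟩ := h
  obtain ⟨i, hi1, hi2, hi⟩ := card_A b e S1619.result.2.2.2 (by norm_num) S2066.result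
  rcases (show i = 1 ∨ i = 2 by omega) with h0 | h0
  · rw [h0] at hi
    exact false_of_ubl hub b [(2, 7), (3, 3), (5, 2), (7, 1)] (by decide +kernel) (by decide +kernel)
      (hi.trans (by decide +kernel)) (by decide +kernel)
  · rw [h0] at hi
    exact false_of_ubl hub b [(2, 8), (3, 3), (5, 2), (7, 1)] (by decide +kernel) (by decide +kernel)
      (hi.trans (by decide +kernel)) (by decide +kernel)

end Cfsg.Agent.H16.EP
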