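import Cfsg.Agent.H284.EP.PS
import Cfsg.Agent.H957.EP.RowSix
import Cfsg.Agent.H882.Del.M11Grp

/-!
# S3499-IV: socle `M₁₂` in `L₆(3)` (helper16), task 5948

* `EPT.no_cyclic_sq` : if `Y = ⟨y⟩` is a Sylow subgroup of prime order `s` of `A` with `C_A(y) = Y` (and the condition `hfrob` of
  (PS)), then `y` has no `s`-th root in `Q`;
* `exists_model` : change of the field of a model of `SL_n`;
* `m12_six` : the socle of `A` is not `M₁₂` for `Q = L₆(3)` (the Sylow 11-subgroup of `L₆(3)` is cyclic of order 121);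
* `no_m12` : the same from the list S5800, for all fields (`h4` of `H957.EP.row_of`).
-/

set_option autoImplicit false

namespace Cfsg.Agent.H16.EP

open Subgroup Cfsg Cfsg.Geo Cfsg.Agent.H284 Cfsg.Agent.H419.EP
open scoped MatrixGroups

section crit

variable {Q : Type*} [Group Q] [Finite Q] {A : Subgroup Q} {Γ : Subgroup (MulAut Q)}

theorem no_cyclic_sq (h : EPT A Γ)
    (hF : ∀ K : Subgroup Q, K ≤ A → (∀ σ ∈ Γ, ∀ k ∈ K, σ k ∈ K) → (∀ a ∈ K, ∀ b ∈ K, a * b = b * a) → K = ⊥)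
    {s : ℕ} (hs : s.Prime) {y : Q} (hyA : y ∈ A) (hy : orderOf y = s)
    (hYc : ∀ a ∈ A, a * y = y * a → a ∈ zpowers y)
    (hfrob : ∀ l, l.Prime → l ∣ Nat.card A → l ≠ s → ¬ l ^ (Nat.card A).factorization l ≡ 1 [MOD s])
    {c : Q} (hc : c ^ s = y) : False := by
  have hcy : c * y = y * c := by rw [← hc]; exact (Commute.refl c).pow_right s
  have hy1 : y ≠ 1 := by
    rintro rfl
    rw [orderOf_one] at hy
    exact hs.one_lt.ne hy
  have hys : y ^ s = 1 := by rw [← hy]; exact pow_orderOf_eq_one y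
  have hcA : c ∉ A := by
    intro hcA
    obtain ⟨k, hk⟩ := mem_zpowers_iff.1 (hYc c hcA hcy)
    apply hy1
    rw [← hc, ← hk, ← zpow_natCast, ← zpow_mul, mul_comm, zpow_mul, zpow_natCast, hys, one_zpow]
  have hYA : zpowers y ≤ A := (zpowers_le).2 hyA
  have hYc' : zpowers y ≤ cj c A := by
    rw [zpowers_le, mem_cj]
    have : c⁻¹ * y * c = y := by rw [mul_assoc, ← hcy, inv_mul_cancel_left]
    rw [this]; exact hyA
  obtain ⟨u, hu, hun, huY⟩ := h.PS_norm hF hs hYA (by rw [Nat.card_zpowers, hy])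
    (fun a ha hay => hYc a ha (hay y (mem_zpowers y))) hfrob hYc' hcA
  obtain ⟨hu1, hu2⟩ := mem_inf.1 hu
  rw [mem_cj] at hu2
  -- `u⁻¹ (c⁻¹ u c)` centralises `y`
  obtain ⟨k, hk⟩ := mem_zpowers_iff.1 (hun y (mem_zpowers y))
  have h1 : u⁻¹ * (c⁻¹ * u * c) ∈ A := A.mul_mem (A.inv_mem hu1) hu2
  have hcyk : c * y ^ k = y ^ k * c := (show Commute c y from hcy).zpow_right k
  have h2 : (c⁻¹ * u * c) * y * (c⁻¹ * u * c)⁻¹ = y ^ k := by
    calc (c⁻¹ * u * c) * y * (c⁻¹ * u * c)⁻¹ = c⁻¹ * u * (c * y) * c⁻¹ * u⁻¹ * c := by group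
      _ = c⁻¹ * u * (y * c) * c⁻¹ * u⁻¹ * c := by rw [hcy]
      _ = c⁻¹ * (u * y * u⁻¹) * c := by group
      _ = c⁻¹ * y ^ k * c := by rw [hk]
      _ = c⁻¹ * (y ^ k * c) := by group
      _ = y ^ k := by rw [← hcyk, inv_mul_cancel_left]
  have h3 : u⁻¹ * (c⁻¹ * u * c) * y = y * (u⁻¹ * (c⁻¹ * u * c)) := by
    have e1 : (c⁻¹ * u * c) * y = y ^ k * (c⁻¹ * u * c) := by rw [← h2]; group
    have e2 : u⁻¹ * y ^ k = y * u⁻¹ := by rw [hk]; group
    rw [mul_assoc, e1, ← mul_assoc, e2, mul_assoc]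
  obtain ⟨j, hj⟩ := mem_zpowers_iff.1 (hYc _ h1 h3)
  -- `u c u⁻¹ = c y^(jk)`
  have h4 : u * c * u⁻¹ = c * (y ^ k) ^ j := by
    have e1 : u * c = c * (u * y ^ j) := by rw [hj]; group
    rw [e1, hk, conj_zpow]
    group
  have h5 : (u * c * u⁻¹) ^ s = y := by
    rw [h4]
    have hcomm : Commute c ((y ^ k) ^ j) := ((show Commute c y from hcy).zpow_right k).zpow_right j
    rw [hcomm.mul_pow, hc, ← zpow_natCast, ← zpow_mul, ← zpow_mul, ← mul_assoc, mul_comm (k * j), zpow_mul, zpow_natCast, hys,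
      one_zpow, mul_one]
  rw [conj_pow, hc] at h5
  apply huY
  apply hYc u hu1
  rw [mul_inv_eq_iff_eq_mul] at h5
  exact h5

end crit

/-! ### change of the field -/

section model

open Matrix

theorem exists_model {Q : Type*} [Group Q] {ι : Type} [Fintype ι] [DecidableEq ι] {F K : Type*} [Field F] [Field K]
    (m : Model Q (specialLinear ι F)) (e : K ≃+* F) : Nonempty (Model Q (specialLinear ι K)) := by
  let g : GL ι K →* GL ι F := Matrix.GeneralLinearGroup.map (e : K →+* F)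
  let g' : GL ι F →* GL ι K := Matrix.GeneralLinearGroup.map (e.symm : F →+* K)
  have hg : ∀ x : GL ι K, x ∈ specialLinear ι K → g x ∈ specialLinear ι F := by
    intro x hx
    have h1 : (x : Matrix ι ι K).det = 1 := congrArg Units.val (MonoidHom.mem_ker.1 hx)
    refine MonoidHom.mem_ker.2 (Units.ext ?_)
    change ((x : Matrix ι ι K).map (e : K →+* F)).det = 1
    have h2 := (RingHom.map_det (e : K →+* F) (x : Matrix ι ι K)).symm
    rw [h1, map_one] at h2
    exact h2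
  have hg' : ∀ x : GL ι F, x ∈ specialLinear ι F → g' x ∈ specialLinear ι K := by
    intro x hx
    have h1 : (x : Matrix ι ι F).det = 1 := congrArg Units.val (MonoidHom.mem_ker.1 hx)
    refine MonoidHom.mem_ker.2 (Units.ext ?_)
    change ((x : Matrix ι ι F).map (e.symm : F →+* K)).det = 1
    have h2 := (RingHom.map_det (e.symm : F →+* K) (x : Matrix ι ι F)).symm
    rw [h1, map_one] at h2
    exact h2
  have hgg : ∀ x, g (g' x) = x := by
    intro x
    apply Units.ext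
    ext i j
    exact e.apply_symm_apply _
  refine ⟨⟨m.π.comp ((g.comp (specialLinear ι K).subtype).codRestrict _ fun x => hg x x.2), ?_, ?_⟩⟩
  · intro q
    obtain ⟨s, rfl⟩ := m.surj q
    refine ⟨⟨g' s, hg' s s.2⟩, ?_⟩
    exact congrArg m.π (Subtype.ext (hgg s))
  · intro s
    have h1 : m.π.comp ((g.comp (specialLinear ι K).subtype).codRestrict _ fun x => hg x x.2) s = 1 ↔
        g (s : GL ι K) ∈ scalars ι F := m.ker _
    rw [h1, mem_scalars_iff, mem_scalars_iff]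
    constructor
    · rintro ⟨c, hc⟩
      refine ⟨Units.map (e.symm : F →* K) c, ?_⟩
      ext i j
      have h2 : e ((s : GL ι K) i j) = (c : F) * (1 : Matrix ι ι F) i j := congrFun (congrFun hc i) j
      have h3 : (s : GL ι K) i j = e.symm ((c : F) * (1 : Matrix ι ι F) i j) := by rw [← h2, e.symm_apply_apply]
      rw [h3, map_mul]
      change e.symm c * e.symm ((1 : Matrix ι ι F) i j) = e.symm c * (1 : Matrix ι ι K) i j
      congr 1
      rw [Matrix.one_apply, Matrix.one_apply]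
      split_ifs
      · exact map_one _
      · exact map_zero _
    · rintro ⟨c, hc⟩
      refine ⟨Units.map (e : K →* F) c, ?_⟩
      ext i j
      have h2 : (s : GL ι K) i j = (c : K) * (1 : Matrix ι ι K) i j := congrFun (congrFun hc i) j
      change e ((s : GL ι K) i j) = e c * (1 : Matrix ι ι F) i j
      rw [h2, map_mul]
      congr 1
      rw [Matrix.one_apply, Matrix.one_apply]
      split_ifs
      · exact map_one _
      · exact map_zero _

end model

/-! ### the matrices -/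

section mat

open Matrix Polynomial

namespace MTw

abbrev M6 := Matrix (Fin 6) (Fin 6) (ZMod 3)

/-- the companion matrix of `(x - 1)(x⁵ + x⁴ + 2x³ + x² + 2)`, of order 11 -/
def CM : M6 := !![0,0,0,0,0,2; 1,0,0,0,0,1; 0,1,0,0,0,1; 0,0,1,0,0,1; 0,0,0,1,0,2; 0,0,0,0,1,0]

/-- an 11-th root of `CM` -/
def C0 : M6 := !![0, 1, 0, 2, 2, 2; 0, 2, 1, 1, 0, 0; 2, 2, 2, 2, 2, 1; 0, 1, 2, 0, 0, 0; 0, 1, 1, 1, 2, 2; 2, 0, 1, 1, 1, 2]

/-- the involution of determinant `-1` -/
def EM : M6 := !![0, 2, 2, 2, 2, 2; 0, 1, 0, 0, 0, 0; 1, 1, 2, 1, 1, 1; 2, 2, 2, 0, 2, 2; 1, 1, 1, 1, 2, 1; 1, 1, 1, 1, 1, 2]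

theorem CM_pow : CM ^ 11 = 1 := by decide +kernel
theorem C0_pow : C0 ^ 11 = CM := by decide +kernel
theorem det_EM : EM.det = 2 := by decide +kernel
theorem det_C0 : C0.det = 1 := by decide +kernel
theorem det_CM : CM.det = 1 := by decide +kernel

/-- the polynomial with coefficients `u` -/
noncomputable def pol (u : Fin 6 → ZMod 3) : (ZMod 3)[X] := ∑ i, Polynomial.C (u i) * Polynomial.X ^ (i : ℕ)

theorem aeval_pol (A : M6) (u : Fin 6 → ZMod 3) : aeval A (pol u) = ∑ i, u i • A ^ (i : ℕ) := by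
  unfold pol
  rw [map_sum]
  refine Finset.sum_congr rfl fun i _ => ?_
  rw [map_mul, map_pow, aeval_X, aeval_C, Algebra.smul_def]

theorem cyc : ∀ j : Fin 6, (Pi.single j 1 : Fin 6 → ZMod 3) = (CM ^ (j : ℕ)) *ᵥ (Pi.single 0 1) := by decide +kernel

/-- the commuting algebra of the companion matrix -/
theorem eq_aeval {Y : M6} (hY : Y * CM = CM * Y) : Y = aeval CM (pol fun i => Y i 0) := by
  have h0 : Y *ᵥ (Pi.single 0 1) = (aeval CM (pol fun i => Y i 0)) *ᵥ (Pi.single 0 1) := by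
    rw [aeval_pol, Matrix.sum_mulVec]
    have h1 : ∀ i : Fin 6, (Y i 0 • CM ^ (i : ℕ)) *ᵥ (Pi.single 0 1 : Fin 6 → ZMod 3) =
        Y i 0 • (Pi.single i 1 : Fin 6 → ZMod 3) := by
      intro i
      rw [Matrix.smul_mulVec, ← cyc]
    rw [Finset.sum_congr rfl fun i _ => h1 i]
    ext k
    rw [Matrix.mulVec_single_one, Finset.sum_apply]
    simp [Pi.single_apply]
  have hp : Commute (aeval CM (pol fun i => Y i 0)) CM := by
    have : Commute (aeval CM (pol fun i => Y i 0)) (aeval CM (Polynomial.X : (ZMod 3)[X])) := by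
      unfold Commute SemiconjBy
      rw [← map_mul, ← map_mul, mul_comm]
    rwa [aeval_X] at this
  have h1 : ∀ j : Fin 6, Y *ᵥ (Pi.single j 1) = (aeval CM (pol fun i => Y i 0)) *ᵥ (Pi.single j 1) := by
    intro j
    rw [cyc j, Matrix.mulVec_mulVec, Matrix.mulVec_mulVec, ((show Commute Y CM from hY).pow_right _).eq,
      (hp.pow_right _).eq, ← Matrix.mulVec_mulVec, ← Matrix.mulVec_mulVec, h0]
  ext i j
  have h2 := congrFun (h1 j) i
  rwa [Matrix.mulVec_single_one, Matrix.mulVec_single_one] at h2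

theorem frob (A : M6) (f : (ZMod 3)[X]) : (aeval A f) ^ 3 = aeval (A ^ 3) f := by
  rw [← map_pow, ← ZMod.expand_card, expand_aeval]

theorem pow_eq {Y : M6} (hY : Y * CM = CM * Y) : Y ^ 243 = Y := by
  have h := eq_aeval hY
  have e : Y ^ 243 = ((((Y ^ 3) ^ 3) ^ 3) ^ 3) ^ 3 := by rw [← pow_mul, ← pow_mul, ← pow_mul, ← pow_mul]
  have e2 : ((((CM ^ 3) ^ 3) ^ 3) ^ 3) ^ 3 = CM := by
    rw [← pow_mul, ← pow_mul, ← pow_mul, ← pow_mul, show 3 * 3 * 3 * 3 * 3 = 11 * 22 + 1 by norm_num, pow_succ,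
      pow_mul, CM_pow, one_pow, one_mul]
  rw [e]
  nth_rw 1 [h]
  rw [frob, frob, frob, frob, frob, e2, ← h]

theorem lin : ∀ a b c d e f : ZMod 3,
    a • (![1, 0, 0, 0, 0, 0] : Fin 6 → ZMod 3) + b • ![0, 0, 0, 1, 0, 0] + c • ((CM ^ 6) *ᵥ ![1, 0, 0, 0, 0, 0]) +
      d • ((CM ^ 9) *ᵥ ![1, 0, 0, 0, 0, 0]) + e • ((CM ^ 12) *ᵥ ![1, 0, 0, 0, 0, 0]) +
      f • ((CM ^ 15) *ᵥ ![1, 0, 0, 0, 0, 0]) = ![a, b, c, d, e, f] → b = 0 ∧ d = 2 * c ∧ e = c ∧ f = c := by
  decide +kernel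

theorem EM_eq : CM ^ 2 + (2 : ZMod 3) • CM ^ 3 + CM ^ 4 + CM ^ 5 = EM := by decide +kernel

theorem nine : ∀ a c : ZMod 3, (a • (1 : M6) + c • EM) * (a • (1 : M6) + c • EM) = 1 →
    (c = 0 ∧ (a = 1 ∨ a = 2)) ∨ (a = 0 ∧ (c = 1 ∨ c = 2)) := by decide +kernel

/-- the involutions of the commuting algebra -/
theorem inv_eq {E : M6} (hE : E * CM = CM * E) (h2 : E * E = 1) : ∃ a c : ZMod 3, E = a • (1 : M6) + c • EM := by
  have h := eq_aeval hE
  have h3 : E ^ 3 = E := by rw [pow_succ, pow_two, h2, one_mul]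
  have h4 : E = ∑ i : Fin 6, E i 0 • (CM ^ 3) ^ (i : ℕ) := by
    rw [← aeval_pol, ← frob, ← h, h3]
  have h5 : (fun i => E i 0) = ∑ i : Fin 6, E i 0 • ((CM ^ 3) ^ (i : ℕ) *ᵥ (Pi.single 0 1 : Fin 6 → ZMod 3)) := by
    have h6 : E *ᵥ (Pi.single 0 1 : Fin 6 → ZMod 3) = (∑ i : Fin 6, E i 0 • (CM ^ 3) ^ (i : ℕ)) *ᵥ Pi.single 0 1 := by
      rw [← h4]
    rw [Matrix.sum_mulVec] at h6
    simp only [Matrix.smul_mulVec] at h6
    rw [← h6]
    ext i
    rw [Matrix.mulVec_single_one]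
    rfl
  have e0 : (Pi.single 0 1 : Fin 6 → ZMod 3) = ![1, 0, 0, 0, 0, 0] := by decide +kernel
  have e3 : (CM ^ 3) *ᵥ (![1, 0, 0, 0, 0, 0] : Fin 6 → ZMod 3) = ![0, 0, 0, 1, 0, 0] := by decide +kernel
  have hv : (fun i => E i 0) = ![E 0 0, E 1 0, E 2 0, E 3 0, E 4 0, E 5 0] := by
    ext i
    fin_cases i <;> rfl
  rw [Fin.sum_univ_six, e0, hv] at h5
  simp only [← pow_mul] at h5
  have h7 := lin (E 0 0) (E 1 0) (E 2 0) (E 3 0) (E 4 0) (E 5 0) (by
    conv_rhs => rw [h5]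
    rw [show 3 * ((0 : Fin 6) : ℕ) = 0 from rfl, show 3 * ((1 : Fin 6) : ℕ) = 3 from rfl,
      show 3 * ((2 : Fin 6) : ℕ) = 6 from rfl, show 3 * ((3 : Fin 6) : ℕ) = 9 from rfl,
      show 3 * ((4 : Fin 6) : ℕ) = 12 from rfl, show 3 * ((5 : Fin 6) : ℕ) = 15 from rfl, pow_zero, Matrix.one_mulVec, e3])
  obtain ⟨hb, hd, he, hf⟩ := h7
  refine ⟨E 0 0, E 2 0, ?_⟩
  rw [aeval_pol, Fin.sum_univ_six, hb, hd, he, hf] at h
  rw [← EM_eq]
  conv_lhs => rw [h]
  rw [show ((0 : Fin 6) : ℕ) = 0 from rfl, show ((1 : Fin 6) : ℕ) = 1 from rfl,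
    show ((2 : Fin 6) : ℕ) = 2 from rfl, show ((3 : Fin 6) : ℕ) = 3 from rfl,
    show ((4 : Fin 6) : ℕ) = 4 from rfl, show ((5 : Fin 6) : ℕ) = 5 from rfl, pow_zero, zero_smul, add_zero,
    smul_add, smul_add, smul_add, smul_smul, mul_comm (E 2 0) 2]
  abel

/-- **the 121-st power** -/
theorem pow_121 {Y : M6} (hY : Y * CM = CM * Y) (hd : Y.det = 1) : ∃ c : ZMod 3, c ≠ 0 ∧ Y ^ 121 = c • (1 : M6) := by
  have hu : IsUnit Y := by
    rw [Matrix.isUnit_iff_isUnit_det, hd]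
    exact isUnit_one
  have h1 : Y ^ 121 * Y ^ 121 = 1 := by
    have h2 := pow_eq hY
    rw [show 243 = 121 + 121 + 1 by norm_num, pow_succ, pow_add] at h2
    apply hu.mul_right_cancel
    rw [h2, one_mul]
  have h2 : Y ^ 121 * CM = CM * Y ^ 121 := (show Commute Y CM from hY).pow_left 121
  obtain ⟨a, c, h3⟩ := inv_eq h2 h1
  have h4 : (Y ^ 121).det = 1 := by rw [Matrix.det_pow, hd, one_pow]
  rw [h3] at h1 h4
  rcases nine a c h1 with ⟨rfl, ha⟩ | ⟨rfl, hc⟩
  · refine ⟨a, ?_, by rw [h3, zero_smul, add_zero]⟩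
    rcases ha with rfl | rfl <;> decide
  · exfalso
    rw [zero_smul, zero_add, Matrix.det_smul, det_EM] at h4
    rcases hc with rfl | rfl
    · revert h4; decide
    · revert h4; decide

/-! ### the elements of `Q` -/

/-- `C0` as an element of `GL` -/
def G0 : GL (Fin 6) (ZMod 3) := ⟨C0, C0 ^ 120, by decide +kernel, by decide +kernel⟩

theorem mem_iff_det {ι : Type} [Fintype ι] [DecidableEq ι] {F : Type*} [Field F] {g : GL ι F} :
    g ∈ Geo.specialLinear ι F ↔ (g : Matrix ι ι F).det = 1 :=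
  ⟨fun h => congrArg Units.val (MonoidHom.mem_ker.1 h), fun h => MonoidHom.mem_ker.2 (Units.ext h)⟩

theorem G0_val : (G0 : M6) = C0 := rfl

theorem G0_mem : G0 ∈ Geo.specialLinear (Fin 6) (ZMod 3) := mem_iff_det.2 (by rw [G0_val]; exact det_C0)

/-- `C0` as an element of `SL` -/
def S0 : Geo.specialLinear (Fin 6) (ZMod 3) := ⟨G0, G0_mem⟩

theorem S0_val : ((S0 : GL (Fin 6) (ZMod 3)) : M6) = C0 := rfl

theorem S0_pow_val (n : ℕ) :
    (((S0 ^ n : Geo.specialLinear (Fin 6) (ZMod 3)) : GL (Fin 6) (ZMod 3)) : M6) = C0 ^ n := by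
  rw [SubgroupClass.coe_pow, Units.val_pow_eq_pow_val, S0_val]

theorem S0_pow : (((S0 ^ 11 : Geo.specialLinear (Fin 6) (ZMod 3)) : GL (Fin 6) (ZMod 3)) : M6) = CM := by
  rw [S0_pow_val, C0_pow]

theorem scal_iff {g : GL (Fin 6) (ZMod 3)} : g ∈ Geo.scalars (Fin 6) (ZMod 3) ↔ ∃ c : ZMod 3, c ≠ 0 ∧ (g : M6) = c • (1 : M6) := by
  rw [mem_scalars_iff]
  constructor
  · rintro ⟨c, hc⟩
    exact ⟨c, c.ne_zero, hc⟩
  · rintro ⟨c, hc, h⟩
    exact ⟨Units.mk0 c hc, h⟩

variable {Q : Type*} [Group Q]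

/-- an element of `Q` commuting with the image of `CM` -/
theorem pow_one (m : Model Q (Geo.specialLinear (Fin 6) (ZMod 3))) {b : Q}
    (hb : b * (m.π S0) ^ 11 = (m.π S0) ^ 11 * b) : b ^ 121 = 1 := by
  obtain ⟨X, rfl⟩ := m.surj b
  rw [← map_pow, ← map_mul, ← map_mul, m.π_eq_iff] at hb
  obtain ⟨z, hz, e⟩ := hb
  obtain ⟨c, hc0, hc⟩ := scal_iff.1 hz
  set Y : M6 := ((X : GL (Fin 6) (ZMod 3)) : M6) with hY
  have hYd : Y.det = 1 := mem_iff_det.1 X.2
  have e1 : Y * CM = c • (CM * Y) := by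
    have h := congrArg (fun g : GL (Fin 6) (ZMod 3) => (g : M6)) e
    simp only [Subgroup.coe_mul, Units.val_mul] at h
    rw [S0_pow, hc, mul_smul_comm, mul_one] at h
    exact h
  have e2 : ∀ n : ℕ, Y * CM ^ n = c ^ n • (CM ^ n * Y) := by
    intro n
    induction n with
    | zero => rw [_root_.pow_zero, _root_.pow_zero, one_smul, mul_one, one_mul]
    | succ n ih =>
      rw [pow_succ, ← mul_assoc, ih, smul_mul_assoc, mul_assoc, e1, mul_smul_comm, smul_smul, ← pow_succ, ← mul_assoc]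
  have e3 := e2 11
  rw [CM_pow, mul_one, one_mul] at e3
  have hu : IsUnit Y := by
    rw [Matrix.isUnit_iff_isUnit_det, hYd]
    exact isUnit_one
  have e4 : c ^ 11 = 1 := by
    have h1 : (c ^ 11) • (1 : M6) = 1 := by
      apply hu.mul_right_cancel
      rw [smul_mul_assoc, one_mul, ← e3]
    have h2 := congrFun (congrFun h1 0) 0
    simpa using h2
  have e5 : c = 1 := by
    revert e4
    clear e e1 e2 e3 hc hc0
    revert c
    decide
  rw [e5, one_smul] at e1
  obtain ⟨d, hd0, hd⟩ := pow_121 e1 hYd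
  rw [← map_pow, m.ker]
  exact scal_iff.2 ⟨d, hd0, hd⟩

theorem pow_121' (m : Model Q (Geo.specialLinear (Fin 6) (ZMod 3))) : (m.π S0) ^ 121 = 1 := by
  have h : (S0 : Geo.specialLinear (Fin 6) (ZMod 3)) ^ 121 = 1 := by
    apply Subtype.ext
    apply Units.ext
    rw [S0_pow_val, show 121 = 11 * 11 by norm_num, pow_mul, C0_pow, CM_pow]
    rfl
  rw [← map_pow, h, map_one]

theorem pow_11_ne (m : Model Q (Geo.specialLinear (Fin 6) (ZMod 3))) : (m.π S0) ^ 11 ≠ 1 := by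
  rw [← map_pow]
  intro h
  obtain ⟨c, -, hc⟩ := scal_iff.1 ((m.ker _).1 h)
  rw [S0_pow] at hc
  have h1 := congrFun (congrFun hc 1) 0
  revert h1
  simp [CM]

theorem orderOf_eq (m : Model Q (Geo.specialLinear (Fin 6) (ZMod 3))) : orderOf (m.π S0) = 121 := by
  have : Fact (Nat.Prime 11) := ⟨by norm_num⟩
  have h := orderOf_eq_prime_pow (p := 11) (n := 1) (x := m.π S0) (by rw [_root_.pow_one]; exact pow_11_ne m)
    (by rw [show 11 ^ (1 + 1) = 121 by norm_num]; exact pow_121' m)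
  rw [h]
  norm_num

end MTw

end mat

/-! ### the socle `M₁₂` -/

section final

open MTw

variable {Q : Type*} [Group Q]

theorem fact_eq {n p k e : ℕ} (hp : p.Prime) (hn : n = p ^ e * k) (hk : ¬ p ∣ k) : n.factorization p = e := by
  have hk0 : k ≠ 0 := by rintro rfl; exact hk (dvd_zero p)
  rw [hn, Nat.factorization_mul (pow_ne_zero _ hp.ne_zero) hk0, Finsupp.add_apply, hp.factorization_pow,
    Finsupp.single_eq_same, Nat.factorization_eq_zero_of_not_dvd hk, add_zero]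

/-- the elements of order 11 of `L₆(3)` -/
theorem pow_121_of_order [Finite Q] (m : Model Q (Geo.specialLinear (Fin 6) (ZMod 3)))
    (hQ : Nat.card Q = 21032402889738240) {y : Q} (hy : orderOf y = 11) :
    (∃ c : Q, c ^ 11 = y) ∧ ∀ a : Q, a * y = y * a → a ^ 121 = 1 := by
  have h11 : Fact (Nat.Prime 11) := ⟨by norm_num⟩
  set x := m.π S0 with hx
  have hxo : orderOf x = 121 := orderOf_eq m
  have hf : (Nat.card Q).factorization 11 = 2 :=
    fact_eq h11.out (k := 173821511485440) (by rw [hQ]; norm_num) (by norm_num)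
  let P : Sylow 11 Q := Sylow.ofCard (zpowers x) (by rw [Nat.card_zpowers, hxo, hf]; norm_num)
  have hyp : IsPGroup 11 (zpowers y) := IsPGroup.of_card (n := 1) (by rw [Nat.card_zpowers, hy, _root_.pow_one])
  obtain ⟨P', hP'⟩ := hyp.exists_le_sylow
  obtain ⟨g, hg⟩ := MulAction.exists_smul_eq Q P' P
  have hgy : g * y * g⁻¹ ∈ zpowers x := by
    have h1 : g * y * g⁻¹ ∈ (g • P' : Sylow 11 Q) := by
      rw [Sylow.smul_def]
      exact ⟨y, hP' (mem_zpowers y), rfl⟩
    rw [hg] at h1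
    exact h1
  obtain ⟨k, hk⟩ := mem_zpowers_iff.1 hgy
  have hy11 : y ^ 11 = 1 := by rw [← hy]; exact pow_orderOf_eq_one y
  have hy1 : y ≠ 1 := by
    rintro rfl
    rw [orderOf_one] at hy
    omega
  have h2 : x ^ (k * 11) = 1 := by
    rw [zpow_mul, hk, show (11 : ℤ) = ((11 : ℕ) : ℤ) from rfl, zpow_natCast, conj_pow, hy11, mul_one, mul_inv_cancel]
  have h3 := orderOf_dvd_iff_zpow_eq_one.2 h2
  rw [hxo] at h3
  have h4 : (11 : ℤ) ∣ k := by
    push_cast at h3
    omega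
  obtain ⟨j, rfl⟩ := h4
  have hyj : y = g⁻¹ * x ^ (11 * j) * g := by rw [hk]; group
  refine ⟨⟨g⁻¹ * x ^ j * g, ?_⟩, ?_⟩
  · have h5 := conj_pow (i := 11) (a := g⁻¹) (b := x ^ j)
    rw [inv_inv] at h5
    rw [h5, ← zpow_natCast, ← zpow_mul, hyj]
    congr 3
    push_cast
    ring
  · intro a ha
    -- `x ^ 11` is a power of `g y g⁻¹`
    have h5 : IsCoprime j (11 : ℤ) := by
      rw [isCoprime_comm, Prime.coprime_iff_not_dvd (Int.prime_iff_natAbs_prime.2 (by norm_num))]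
      rintro ⟨i, rfl⟩
      apply hy1
      rw [hyj, show 11 * (11 * i) = (121 : ℤ) * i by ring, zpow_mul]
      have : x ^ (121 : ℤ) = 1 := by
        rw [show (121 : ℤ) = ((121 : ℕ) : ℤ) from rfl, zpow_natCast, ← hxo, pow_orderOf_eq_one]
      rw [this, one_zpow, mul_one, inv_mul_cancel]
    obtain ⟨u, v, huv⟩ := h5
    have h6 : x ^ 11 = (g * y * g⁻¹) ^ u := by
      rw [← hk, ← zpow_mul, ← zpow_natCast]
      have h7 : (11 : ℤ) * j * u = 11 - 121 * v := by
        have : u * j = 1 - v * 11 := by rw [← huv]; ring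
        calc (11 : ℤ) * j * u = 11 * (u * j) := by ring
          _ = _ := by rw [this]; ring
      have : x ^ (121 : ℤ) = 1 := by
        rw [show (121 : ℤ) = ((121 : ℕ) : ℤ) from rfl, zpow_natCast, ← hxo, pow_orderOf_eq_one]
      rw [h7, zpow_sub, zpow_mul, this, one_zpow, inv_one, mul_one]
      rfl
    have h7 : (g * a * g⁻¹) * x ^ 11 = x ^ 11 * (g * a * g⁻¹) := by
      rw [h6]
      have h8 : Commute (g * a * g⁻¹) (g * y * g⁻¹) := by
        change g * a * g⁻¹ * (g * y * g⁻¹) = g * y * g⁻¹ * (g * a * g⁻¹)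
        calc g * a * g⁻¹ * (g * y * g⁻¹) = g * (a * y) * g⁻¹ := by group
          _ = g * (y * a) * g⁻¹ := by rw [ha]
          _ = _ := by group
      exact (h8.zpow_right u).eq
    have h8 := MTw.pow_one m h7
    rw [conj_pow, mul_inv_eq_one] at h8
    have h9 : g * a ^ 121 = g * 1 := by rw [h8, mul_one]
    exact mul_left_cancel h9

/-- an abelian Sylow argument: `a ∈ A` commuting with `y` of order `11`, `a ^ 121 = 1`, `11 ∥ |A|` -/
theorem mem_zpowers_of_pow {A : Subgroup Q} [Finite Q] (hA : (Nat.card A).factorization 11 = 1) {y : Q} (hyA : y ∈ A)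
    (hy : orderOf y = 11) {a : Q} (ha : a ∈ A) (hay : a * y = y * a) (ha2 : a ^ 121 = 1) : a ∈ zpowers y := by
  have h11 : Fact (Nat.Prime 11) := ⟨by norm_num⟩
  set y' : A := ⟨y, hyA⟩ with hy'
  set a' : A := ⟨a, ha⟩ with ha'
  have hyo : orderOf y' = 11 := by rw [hy', Subgroup.orderOf_mk, hy]
  let P : Sylow 11 A := Sylow.ofCard (zpowers y') (by rw [Nat.card_zpowers, hyo, hA, _root_.pow_one])
  have hap : IsPGroup 11 (zpowers a') := by
    have h1 : orderOf a' ∣ 11 ^ 2 := by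
      rw [orderOf_dvd_iff_pow_eq_one]
      exact Subtype.ext ha2
    obtain ⟨n, -, hn⟩ := (Nat.dvd_prime_pow h11.out).1 h1
    exact IsPGroup.of_card (n := n) (by rw [Nat.card_zpowers, hn])
  have h0 := hap.inf_normalizer_sylow P
  have h1 : a' ∈ zpowers a' ⊓ (P : Subgroup A) := by
    rw [← h0]
    refine Subgroup.mem_inf.2 ⟨mem_zpowers a', ?_⟩
    change a' ∈ normalizer ((zpowers y' : Subgroup A) : Set A)
    rw [mem_normalizer_iff]
    intro z
    have hc : ∀ z ∈ zpowers y', a' * z * a'⁻¹ = z := by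
      intro z hz
      obtain ⟨k, rfl⟩ := mem_zpowers_iff.1 hz
      have h2 : Commute a' y' := Subtype.ext hay
      rw [(h2.zpow_right k).eq, mul_inv_cancel_right]
    constructor
    · intro hz
      have hz' : z ∈ zpowers y' := hz
      change _ ∈ zpowers y'
      rw [hc z hz']
      exact hz'
    · intro hz
      have hz' : a' * z * a'⁻¹ ∈ zpowers y' := hz
      have h3 := hc _ hz'
      have h4 : a' * z * a'⁻¹ = z := by
        have h5 : a' * (a' * z * a'⁻¹) * a'⁻¹ = a' * z * a'⁻¹ := h3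
        have h6 : a' * (a' * z * a'⁻¹) = a' * z := mul_right_cancel h5
        exact mul_left_cancel h6
      change z ∈ zpowers y'
      rw [← h4]
      exact hz'
  have h2 : a' ∈ zpowers y' := h1.2
  obtain ⟨k, hk⟩ := mem_zpowers_iff.1 h2
  rw [mem_zpowers_iff]
  exact ⟨k, congrArg Subtype.val hk⟩

theorem card_cases {A : Subgroup Q} (hA : HasSoc A Spor.M12) : Nat.card A = 95040 ∨ Nat.card A = 190080 := by
  have h1 := hA.card_dvd
  rw [H882.Grp.card12] at h1
  have h2 := hA.card_le.trans (Cfsg.Agent.H957.EP.card_aut_m12 ⟨MulEquiv.refl _⟩)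
  obtain ⟨k, hk⟩ := h1
  have h3 : Nat.card A ≠ 0 := by
    have : Finite A := by
      obtain ⟨f, hf⟩ := hA.exists_hom
      have : Finite (MulAut Spor.M12) := inferInstance
      exact Finite.of_injective f hf
    exact Nat.card_pos.ne'
  have : k ≠ 0 := by rintro rfl; exact h3 (by rw [hk, mul_zero])
  omega

/-- **The socle of `A` is not `M₁₂` for `Q = L₆(3)`.** -/
theorem m12_six {Q : Type} [Group Q] [Finite Q] {A : Subgroup Q} {Γ : Subgroup (MulAut Q)} (h : EPT A Γ) {F : Type}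
    [Field F] [Fintype F] (hF : Fintype.card F = 3) (m : Model Q (Cfsg.Geo.specialLinear (Fin 6) F))
    (hA : HasSoc A Spor.M12) : False := by
  have h11 : Fact (Nat.Prime 11) := ⟨by norm_num⟩
  obtain ⟨m'⟩ := exists_model m (ZMod.ringEquivOfPrime F Nat.prime_three hF)
  have hQ := Cfsg.Agent.H957.EP.card_three m hF
  have hc := card_cases hA
  have hf11 : (Nat.card A).factorization 11 = 1 := by
    rcases hc with hc | hc
    · exact fact_eq h11.out (k := 8640) (by rw [hc]; norm_num) (by norm_num)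
    · exact fact_eq h11.out (k := 17280) (by rw [hc]; norm_num) (by norm_num)
  have hd : 11 ∣ Nat.card A := by
    rcases hc with hc | hc <;> rw [hc] <;> norm_num
  obtain ⟨⟨y, hyA⟩, hy⟩ := exists_prime_orderOf_dvd_card' 11 hd
  rw [Subgroup.orderOf_mk] at hy
  obtain ⟨⟨c, hcy⟩, hcent⟩ := pow_121_of_order m' hQ hy
  refine no_cyclic_sq h ?_ h11.out hyA hy (fun a ha hay => mem_zpowers_of_pow hf11 hyA hy ha hay (hcent a hay)) ?_ hcy
  · intro K hK hKn hKab
    refine hA.no_abelian H882.Grp.simple12 ?_ hK (fun a ha k hk => ?_) hKab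
    · intro hab
      let _ : CommGroup Spor.M12 := { (inferInstance : Group Spor.M12) with mul_comm := hab }
      have := H882.Grp.simple12
      have h1 : (Nat.card Spor.M12).Prime := IsSimpleGroup.prime_card (α := Spor.M12)
      rw [H882.Grp.card12] at h1
      norm_num at h1
    · exact hKn _ ((h.conj a).2 ha) k hk
  · intro l hl hld hl11
    have h2 : l ∣ 2 ^ 7 * 3 ^ 3 * 5 * 11 := by
      refine hld.trans ?_
      rcases hc with hc | hc <;> rw [hc] <;> norm_num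
    have h3 : l = 2 ∨ l = 3 ∨ l = 5 := by
      rcases (hl.dvd_mul).1 h2 with h2 | h2
      · rcases (hl.dvd_mul).1 h2 with h2 | h2
        · rcases (hl.dvd_mul).1 h2 with h2 | h2
          · exact Or.inl ((Nat.prime_dvd_prime_iff_eq hl Nat.prime_two).1 (hl.dvd_of_dvd_pow h2))
          · exact Or.inr (Or.inl ((Nat.prime_dvd_prime_iff_eq hl Nat.prime_three).1 (hl.dvd_of_dvd_pow h2)))
        · exact Or.inr (Or.inr ((Nat.prime_dvd_prime_iff_eq hl Nat.prime_five).1 h2))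
      · exact absurd ((Nat.prime_dvd_prime_iff_eq hl h11.out).1 h2) hl11
    have h5 : Nat.Prime 5 := Nat.prime_five
    rcases hc with hc | hc
    · rcases h3 with rfl | rfl | rfl
      · rw [fact_eq Nat.prime_two (e := 6) (k := 1485) (by rw [hc]; norm_num) (by norm_num)]; decide
      · rw [fact_eq Nat.prime_three (e := 3) (k := 3520) (by rw [hc]; norm_num) (by norm_num)]; decide
      · rw [fact_eq h5 (e := 1) (k := 19008) (by rw [hc]; norm_num) (by norm_num)]; decide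
    · rcases h3 with rfl | rfl | rfl
      · rw [fact_eq Nat.prime_two (e := 7) (k := 1485) (by rw [hc]; norm_num) (by norm_num)]; decide
      · rw [fact_eq Nat.prime_three (e := 3) (k := 7040) (by rw [hc]; norm_num) (by norm_num)]; decide
      · rw [fact_eq h5 (e := 1) (k := 38016) (by rw [hc]; norm_num) (by norm_num)]; decide

/-- `L₃(q)` is too large, `q ≠ 3` odd -/
theorem psl3_card {F : Type*} [Field F] [Fintype F] (hodd : Odd (Fintype.card F)) (h3 : Fintype.card F ≠ 3) :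
    190080 < Nat.card (Matrix.ProjectiveSpecialLinearGroup (Fin 3) F) := by
  have hq : 2 ≤ Fintype.card F := Fintype.one_lt_card
  by_cases h5 : Fintype.card F = 5
  · have h := S0243.result (F := F) h5 3 (by norm_num)
    rw [Fin.prod_univ_three, show Nat.gcd 3 (5 - 1) = 1 by decide] at h
    norm_num at h
    omega
  · have h7 : 7 ≤ Fintype.card F := by
      obtain ⟨k, hk⟩ := hodd
      omega
    have h := Cfsg.Agent.H957.EP.psl_card_lower (F := F) (n := 3) (by norm_num)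
    have h8 : 7 ^ (3 * (3 - 1)) * (7 - 1) ^ (3 - 1) ≤ Fintype.card F ^ (3 * (3 - 1)) * (Fintype.card F - 1) ^ (3 - 1) :=
      Nat.mul_le_mul (Nat.pow_le_pow_left h7 _) (Nat.pow_le_pow_left (by omega) _)
    norm_num at h h8
    omega

/-- **`h4` of `H957.EP.row_of`, `row_ub`, in the form `fun hS => (no_m12 h m hl hS).elim`.** -/
theorem no_m12 {Q : Type} [Group Q] [Finite Q] {A : Subgroup Q} {Γ : Subgroup (MulAut Q)} (h : EPT A Γ) {F : Type}
    [Field F] [Fintype F] (m : Model Q (Cfsg.Geo.specialLinear (Fin 6) F)) (hl : Cfsg.Agent.H957.EP.List5800 (m.hat A)) :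
    ¬ HasSoc A Spor.M12 := by
  intro hA
  have hc := card_cases hA
  obtain ⟨P, p, hcore, hp, -, hl | hl | hl | hl | hl | hl⟩ := hl
  · obtain ⟨⟨e⟩, hq, hp3, hpm⟩ := hl
    have h1 := ((hasSoc_of_core m hcore).congr e).card_le
    rw [Cfsg.Agent.H957.EP.card_aut_l2_11] at h1
    omega
  · obtain ⟨⟨e⟩, hq⟩ := hl
    have h1 := ((hasSoc_of_core m hcore).congr e).card_le.trans Cfsg.Agent.H957.EP.card_aut_a7
    omega
  · obtain ⟨⟨K, _, _, hK, ⟨e⟩⟩, hq, hpm⟩ := hl
    have h1 := ((hasSoc_of_core m hcore).congr e).card_dvd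
    have h2 := S0243.result (F := K) hK 3 (by norm_num)
    rw [Fin.prod_univ_three] at h2
    norm_num at h2
    have h3 : Nat.card (Matrix.ProjectiveSpecialLinearGroup (Fin 3) K) = 20160 := by omega
    rw [h3] at h1
    omega
  · obtain ⟨⟨e⟩, hq⟩ := hl
    exact m12_six h hq m hA
  · obtain ⟨⟨K, _, _, hK, ⟨e⟩⟩, hq, hpm⟩ := hl
    have hd := ((hasSoc_of_core m hcore).congr e).card_dvd
    have h2 := S0280.result (F := K) (q := 3) (by rw [hK]; norm_num) 4 (by norm_num)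
    simp only [Finset.prod_range_succ, Finset.prod_range_zero] at h2
    norm_num [Nat.even_iff] at h2
    have h3 : Nat.card (Cfsg.PSU 4 K 3) = 3265920 := by omega
    rw [h3] at hd
    omega
  · obtain ⟨⟨e⟩, hodd⟩ := hl
    by_cases h3 : Fintype.card F = 3
    · exact m12_six h h3 m hA
    · have hd := ((hasSoc_of_core m hcore).congr e).card_dvd
      have h4 := psl3_card hodd h3
      have h5 := Nat.le_of_dvd (by omega) hd
      omega

end final

end Cfsg.Agent.H16.EP
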