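import Cfsg.Agent.H419.EP.Big
import Cfsg.Agent.H59.EP.UB
import Cfsg.Agent.H173.EP.LineBound
import Cfsg.Agent.H953.Sympl
import Cfsg.Agent.H807.El.Mathieu
import Cfsg.Agent.MTwelveType.SylowModel
import Cfsg.Agent.S2060
import Cfsg.Agent.S2061
import Cfsg.Agent.S2062
import Cfsg.Agent.S2065
import Cfsg.Agent.SignalizersComponents.BalEndJ1

/-!
# S3499-V: small sporadic socles (helper16), task 6078

* `even_of_two` : a nondegenerate quadratic form over a field with `2 = 0` lives in even dimension;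
* `ord_ge : 2 ^ 88 ≤ |Q|` for every `Big A Γ S P`;
* `false_of_le` : contradiction from a bound `r` for the number of the `M0` with `|A| (1 + r (2 (|A|/6))) < 2 ^ 88`;
* `small` : `|A| ≤ 2 ^ 22`, no `p ^ 2` with `p ≥ 5` divides `|A|`, `galSum |A| ≤ 2 ^ 24`;
* `m11 m12 m22 j1`.
-/

set_option autoImplicit false

namespace Cfsg.Agent.H16.EP

open Subgroup Cfsg Cfsg.Geo Cfsg.Agent.H284 Cfsg.Agent.H419.EP Cfsg.Agent.H59.EP
open scoped MatrixGroups

/-- a nondegenerate quadratic form over a field with `2 = 0` lives in even dimension -/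
theorem even_of_two {ι : Type} [Fintype ι] [DecidableEq ι] {F : Type*} [Field F] {Qf : (ι → F) → F}
    (hQ : IsNondegenerateQuadraticForm Qf) (h2 : (2 : F) = 0) : Even (Fintype.card ι) := by
  have hp := hQ.polar_bilinear
  have halt : ∀ v, QuadraticMap.polar Qf v v = 0 := by
    intro v
    have h0 : Qf (v + v) = 4 * Qf v := by
      have h1 := hQ.smul 2 v
      rw [two_smul] at h1
      rw [h1]; ring
    show Qf (v + v) - Qf v - Qf v = 0
    rw [h0]
    linear_combination Qf v * h2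
  have hs : IsSymplecticForm (QuadraticMap.polar Qf) := ⟨hp, fun v w => by
    have h1 : QuadraticMap.polar Qf v w = QuadraticMap.polar Qf w v := QuadraticMap.polar_comm _ _ _
    rw [h1]
    linear_combination QuadraticMap.polar Qf w v * h2, halt, hQ.nondegenerate⟩
  have h3 := Cfsg.Agent.H953.even_finrank_of_alt (Cfsg.Agent.H953.toBil hs) halt (by
    intro u hu
    by_contra hne
    obtain ⟨-, x, hx⟩ := hQ.nondegenerate u hne
    exact hx (hu x))
  rwa [Module.finrank_fintype_fun_eq_card] at h3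

section Big

variable {Q : Type} [Group Q] [Finite Q] {A : Subgroup Q} {Γ : Subgroup (MulAut Q)} {ι : Type} [Fintype ι]
    [DecidableEq ι] {F : Type} [Field F] [Fintype F] {S P : Subgroup (GL ι F)}

/-- the order of `Q` in dimension at least 13 -/
theorem ord_ge (b : Big A Γ S P) : 2 ^ 88 ≤ Nat.card Q := by
  have hF : 2 ≤ Fintype.card F := b.two_le
  rcases Nat.lt_or_ge 13 (Fintype.card ι) with hn | hn
  · have h1 := b.ord_two (N := 14) hn
    have h2 : 14 * (14 - 1) / 2 = 91 := by norm_num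
    rw [h2] at h1
    have h3 : 2 ^ 91 = 8 * 2 ^ 88 := by norm_num
    rw [h3] at h1
    exact Nat.le_of_mul_le_mul_left h1 (by norm_num)
  · have hn' : Fintype.card ι = 13 := le_antisymm hn b.thirteen
    have hb := b.ord
    rcases b.kind with ⟨-, ho, -, -, -⟩ | ⟨f, -, -, h3, ho, -, -⟩ | ⟨q, hq, σ, f, -, -, -, ho, -, -⟩ |
      ⟨Qf, hQ, -, ho, -⟩
    · rw [hn'] at ho
      exact le_trans (le_trans (Nat.pow_le_pow_right (by norm_num) (by norm_num)) (Nat.pow_le_pow_left hF _)) ho
    · rw [hn'] at hb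
      have h1 : 3 ^ 78 ≤ 8 * Nat.card Q := le_trans (Nat.pow_le_pow_left h3 78) hb
      have h2 : 8 * 2 ^ 88 ≤ 3 ^ 78 := by norm_num
      omega
    · have hq2 : 2 ≤ q := by
        by_contra hlt
        have : q ^ 2 ≤ 1 := by
          have : q ≤ 1 := by omega
          calc q ^ 2 ≤ 1 ^ 2 := Nat.pow_le_pow_left this 2
            _ = 1 := one_pow 2
        omega
      rw [hn'] at ho
      exact le_trans (le_trans (Nat.pow_le_pow_right (by norm_num) (by norm_num)) (Nat.pow_le_pow_left hq2 _)) ho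
    · have h3 : 3 ≤ Fintype.card F := by
        by_contra hlt
        have hc : Fintype.card F = 2 := by omega
        have h2 : (2 : F) = 0 := by
          have := Nat.cast_card_eq_zero F
          rw [hc] at this
          exact_mod_cast this
        have := even_of_two hQ h2
        rw [hn'] at this
        exact absurd this (by decide)
      rw [hn'] at hb
      have h1 : 3 ^ 78 ≤ 8 * Nat.card Q := le_trans (Nat.pow_le_pow_left h3 78) hb
      have h2 : 8 * 2 ^ 88 ≤ 3 ^ 78 := by norm_num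
      omega

/-- no abelian normal subgroups -/
theorem noAb (b : Big A Γ S P) : ∀ K : Subgroup Q, K ≤ A → (∀ a ∈ A, ∀ k ∈ K, a * k * a⁻¹ ∈ K) →
    (∀ a ∈ K, ∀ b ∈ K, a * b = b * a) → K = ⊥ := by
  intro K h1 h2 h3
  refine b.hasSoc.no_abelian b.core.simple ?_ h1 h2 h3
  intro hc
  exact b.core.nonabelian ⟨⟨hc⟩⟩

/-- the line bound with the number `r` of the `M0` -/
theorem false_of_le (b : Big A Γ S P) {r N : ℕ} (hr : {M : Subgroup Q | ∃ x, x ∉ A ∧ M = A ⊓ cj x A}.ncard ≤ r)
    (hA : Nat.card A ≤ N) (hN : N * (1 + r * (2 * (N / 6))) < 2 ^ 88) : False := by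
  have h1 := Cfsg.Agent.H173.EP.ub1 b.simple b.ept (μ := 6) (by norm_num)
    fun _ hx => EPT.six_le b.ept (noAb b) hx
  have h2 : A.index ≤ 1 + r * (2 * (N / 6)) := by
    refine h1.trans (Nat.add_le_add_left ?_ 1)
    exact Nat.mul_le_mul hr (Nat.mul_le_mul_left 2 (Nat.div_le_div_right hA))
  have h3 := A.card_mul_index
  have h4 := ord_ge b
  have h5 : Nat.card Q ≤ N * (1 + r * (2 * (N / 6))) := by
    rw [← h3]
    exact Nat.mul_le_mul hA h2
  omega

/-- **The general lemma.** -/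
theorem small (b : Big A Γ S P) (hg : TwoGen.{0}) (h5 : ∀ p, p.Prime → 5 ≤ p → ¬ p ^ 2 ∣ Nat.card A)
    (hA : Nat.card A ≤ 2 ^ 22) (hgal : galSum (Nat.card A) ≤ 2 ^ 24) : False := by
  have h1 := EPT.ncard_le b.ept hg (noAb b) h5
  refine false_of_le b (h1.trans (Nat.add_le_add (Nat.mul_le_mul hgal (Nat.div_le_div_right hA))
    (Nat.div_le_div_right (Nat.pow_le_pow_left hA 2)))) hA ?_
  norm_num

/-- the general lemma with the factorisation of the order of `A` -/
theorem small_list (b : Big A Γ S P) (hg : TwoGen.{0}) (l : List (ℕ × ℕ)) (h1 : ∀ x ∈ l, x.1.Prime ∧ 0 < x.2)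
    (h2 : (l.map Prod.fst).Nodup) (h5 : ∀ x ∈ l, 5 ≤ x.1 → x.2 = 1) (hc : Nat.card A = (l.map fun x => x.1 ^ x.2).prod)
    (hA : (l.map fun x => x.1 ^ x.2).prod ≤ 2 ^ 22) (hgal : (l.map fun x => gal x.1 x.2).sum ≤ 2 ^ 24) : False := by
  refine small b hg (by rw [hc]; exact not_sq_dvd_list l h1 h2 h5) (by rw [hc]; exact hA) ?_
  rw [hc, (galSum_list l h1 h2).1]
  exact hgal

/-- the order of the automorphism group -/
theorem card_mulAut_le (L : Type*) [Group L] [Finite L] : Nat.card (MulAut L) ≤ Nat.card (Out L) * Nat.card L := by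
  have h2 : Nat.card (Out L) * Nat.card (Inn L) = Nat.card (MulAut L) :=
    (Subgroup.card_eq_card_quotient_mul_card_subgroup _).symm
  rw [← h2]
  refine Nat.mul_le_mul_left _ ?_
  exact Nat.card_le_card_of_surjective (MulAut.conj : L →* MulAut L).rangeRestrict
    (MonoidHom.rangeRestrict_surjective _)

/-- the order of `A` when `|Out L| = k` -/
theorem card_A (b : Big A Γ S P) {L : Type} [Group L] (e : socle P ≃* L) {c k : ℕ} (hc : Nat.card L = c) (hc0 : c ≠ 0)
    (hk : Nat.card (Out L) = k) : ∃ i, 1 ≤ i ∧ i ≤ k ∧ Nat.card A = i * c := by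
  have : Finite L := Nat.finite_of_card_ne_zero (by rw [hc]; exact hc0)
  have h := b.hasSoc' e
  obtain ⟨i, hi⟩ := h.card_dvd
  have h1 := h.card_le
  have h2 := card_mulAut_le L
  rw [hk, hc] at h2
  rw [hc] at hi
  have h3 : c * i ≤ k * c := by rw [← hi]; exact h1.trans h2
  rw [mul_comm] at h3
  refine ⟨i, ?_, Nat.le_of_mul_le_mul_right h3 (Nat.pos_of_ne_zero hc0), by rw [hi, mul_comm]⟩
  rcases Nat.eq_zero_or_pos i with h0 | h0
  · rw [h0, mul_zero] at hi
    exact absurd hi Nat.card_pos.ne'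
  · exact h0

/-- one numeric call for `|Out L| = 1` -/
theorem row_one (b : Big A Γ S P) (hg : TwoGen.{0}) {L : Type} [Group L] (e : socle P ≃* L) {c : ℕ}
    (hc : Nat.card L = c) (hc0 : c ≠ 0) (hk : Nat.card (Out L) = 1)
    (l : List (ℕ × ℕ)) (h1 : ∀ x ∈ l, x.1.Prime ∧ 0 < x.2)
    (h2 : (l.map Prod.fst).Nodup) (h5 : ∀ x ∈ l, 5 ≤ x.1 → x.2 = 1) (h : c = (l.map fun x => x.1 ^ x.2).prod)
    (hA : (l.map fun x => x.1 ^ x.2).prod ≤ 2 ^ 22) (hgal : (l.map fun x => gal x.1 x.2).sum ≤ 2 ^ 24) : False := by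
  obtain ⟨i, hi1, hi2, hi⟩ := card_A b e hc hc0 hk
  have : i = 1 := le_antisymm hi2 hi1
  rw [this, one_mul] at hi
  exact small_list b hg l h1 h2 h5 (hi.trans h) hA hgal

/-- one numeric call for `|Out L| = 2` -/
theorem row_two (b : Big A Γ S P) (hg : TwoGen.{0}) {L : Type} [Group L] (e : socle P ≃* L) {c : ℕ}
    (hc : Nat.card L = c) (hc0 : c ≠ 0) (hk : Nat.card (Out L) = 2)
    (l l' : List (ℕ × ℕ)) (h1 : ∀ x ∈ l, x.1.Prime ∧ 0 < x.2)
    (h2 : (l.map Prod.fst).Nodup) (h5 : ∀ x ∈ l, 5 ≤ x.1 → x.2 = 1) (h : c = (l.map fun x => x.1 ^ x.2).prod)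
    (hA : (l.map fun x => x.1 ^ x.2).prod ≤ 2 ^ 22) (hgal : (l.map fun x => gal x.1 x.2).sum ≤ 2 ^ 24)
    (h1' : ∀ x ∈ l', x.1.Prime ∧ 0 < x.2)
    (h2' : (l'.map Prod.fst).Nodup) (h5' : ∀ x ∈ l', 5 ≤ x.1 → x.2 = 1) (h' : 2 * c = (l'.map fun x => x.1 ^ x.2).prod)
    (hA' : (l'.map fun x => x.1 ^ x.2).prod ≤ 2 ^ 22) (hgal' : (l'.map fun x => gal x.1 x.2).sum ≤ 2 ^ 24) : False := by
  obtain ⟨i, hi1, hi2, hi⟩ := card_A b e hc hc0 hk
  rcases (show i = 1 ∨ i = 2 by omega) with h0 | h0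
  · rw [h0, one_mul] at hi
    exact small_list b hg l h1 h2 h5 (hi.trans h) hA hgal
  · rw [h0] at hi
    exact small_list b hg l' h1' h2' h5' (hi.trans h') hA' hgal'

/-! ### the rows -/

theorem m11 (hg : TwoGen.{0}) (b : Big A Γ S P) (h : Spor.IsoM11 (socle P)) : False := by
  obtain ⟨e⟩ := h
  exact row_one b hg e Cfsg.Agent.H807.El.card_M11 (by norm_num) S2060.result
    [(2, 4), (3, 2), (5, 1), (11, 1)] (by decide +kernel) (by decide +kernel) (by decide +kernel) (by decide +kernel)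
    (by decide +kernel) (by decide +kernel)

theorem m12 (hg : TwoGen.{0}) (b : Big A Γ S P) (h : Spor.IsoM12 (socle P)) : False := by
  obtain ⟨e⟩ := h
  exact row_two b hg e Cfsg.Agent.H807.El.card_M12 (by norm_num) S2061.result
    [(2, 6), (3, 3), (5, 1), (11, 1)] [(2, 7), (3, 3), (5, 1), (11, 1)]
    (by decide +kernel) (by decide +kernel) (by decide +kernel) (by decide +kernel)
    (by decide +kernel) (by decide +kernel)
    (by decide +kernel) (by decide +kernel) (by decide +kernel) (by decide +kernel)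
    (by decide +kernel) (by decide +kernel)

theorem m22 (hg : TwoGen.{0}) (b : Big A Γ S P) (h : Spor.IsoM22 (socle P)) : False := by
  obtain ⟨e⟩ := h
  exact row_two b hg e Cfsg.Agent.H807.El.card_M22 (by norm_num) S2062.result
    [(2, 7), (3, 2), (5, 1), (7, 1), (11, 1)] [(2, 8), (3, 2), (5, 1), (7, 1), (11, 1)]
    (by decide +kernel) (by decide +kernel) (by decide +kernel) (by decide +kernel)
    (by decide +kernel) (by decide +kernel)
    (by decide +kernel) (by decide +kernel) (by decide +kernel) (by decide +kernel)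
    (by decide +kernel) (by decide +kernel)

theorem j1 (hg : TwoGen.{0}) (b : Big A Γ S P) (h : Spor.IsoJ1 (socle P)) : False := by
  obtain ⟨e⟩ := h
  exact row_one b hg e Cfsg.Agent.SignalizersComponents.BalEndJ1.card_J1 (by norm_num) S2065.result
    [(2, 3), (3, 1), (5, 1), (7, 1), (11, 1), (19, 1)] (by decide +kernel) (by decide +kernel) (by decide +kernel)
    (by decide +kernel) (by decide +kernel) (by decide +kernel)

end Big

end Cfsg.Agent.H16.EP
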